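import Groth.Agent.Gaga.H625.StIdeal
import Groth.Agent.S0025
import Groth.Agent.CohqB.ProjBC
import Groth.Agent.Dix.ProjProper
import Groth.Agent.Sga5.ProjSmooth
import Groth.Agent.Etcore.SmoothRed

/-!
# [CHOW] for S4310: Chow's lemma for `V(I) ⊆ X`, embedded in `P^m × X`
-/

set_option autoImplicit false

open CategoryTheory AlgebraicGeometry TopologicalSpace Opposite

noncomputable section

namespace Groth.Agent.Gaga.H625.Chow

open Groth.Agent.Gaga.H976.Defs Groth.Agent.Gaga.H625.StIdeal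
open CategoryTheory.Limits

/-- Composition and stalk maps, elementwise. -/
theorem stalkMap_comp_apply {X Y Z : Scheme.{0}} (f : X ⟶ Y) (g : Y ⟶ Z) (x : X)
    (b : Z.presheaf.stalk (g (f x))) :
    ((f ≫ g).stalkMap x).hom b = (f.stalkMap x).hom ((g.stalkMap (f x)).hom b) := by
  have h := Scheme.Hom.stalkMap_comp f g x
  exact congr($(h).hom b)

theorem germ_congr {X Y : Scheme.{0}} (g g' : X ⟶ Y) (h : g = g') (V : Y.Opens) (s : Γ(Y, V)) (w : X)
    (h1 : g w ∈ V) (h2 : g' w ∈ V) :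
    (X.presheaf.germ (g ⁻¹ᵁ V) w h1).hom ((g.app V).hom s) =
      (X.presheaf.germ (g' ⁻¹ᵁ V) w h2).hom ((g'.app V).hom s) := by
  subst h
  rfl

/-- The commutative square `i ≫ p = π ≫ ι` on stalks. -/
theorem square {W E X Z : Scheme.{0}} (i : W ⟶ E) (p : E ⟶ X) (π : W ⟶ Z) (ι : Z ⟶ X)
    (h : i ≫ p = π ≫ ι) (w : W) (V : X.Opens) (s : Γ(X, V)) (h1 : p (i w) ∈ V) (h2 : ι (π w) ∈ V) :
    (i.stalkMap w).hom ((p.stalkMap (i w)).hom ((X.presheaf.germ V (p (i w)) h1).hom s)) =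
      (π.stalkMap w).hom ((ι.stalkMap (π w)).hom ((X.presheaf.germ V (ι (π w)) h2).hom s)) := by
  have e1 := Scheme.Hom.germ_stalkMap_apply p V (i w) h1 s
  have e2 := Scheme.Hom.germ_stalkMap_apply i (p ⁻¹ᵁ V) w h1 ((p.app V).hom s)
  have e3 := Scheme.Hom.germ_stalkMap_apply ι V (π w) h2 s
  have e4 := Scheme.Hom.germ_stalkMap_apply π (ι ⁻¹ᵁ V) w h2 ((ι.app V).hom s)
  have e5 := germ_congr (i ≫ p) (π ≫ ι) h V s w h1 h2
  refine (congrArg (i.stalkMap w).hom e1).trans (e2.trans (Eq.trans ?_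
    (e4.symm.trans (congrArg (π.stalkMap w).hom e3.symm))))
  exact e5

theorem mem_congr {X : Scheme.{0}} (I : X.IdealSheafData) (V : X.Opens) (s : Γ(X, V)) (x x' : X)
    (h : x = x') (h1 : x ∈ V) (h2 : x' ∈ V)
    (hs : (X.presheaf.germ V x h1).hom s ∈ stIdeal I x) :
    (X.presheaf.germ V x' h2).hom s ∈ stIdeal I x' := by
  subst h
  exact hs

/-- Stalk maps over the locus where `π` is an isomorphism. -/
theorem isIso_stalkMap {W Z : Scheme.{0}} (π : W ⟶ Z) (U : Z.Opens) [IsIso (π ∣_ U)] (w : W)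
    (hw : π w ∈ U) : IsIso (π.stalkMap w) := by
  have h := morphismRestrictStalkMap π U ⟨w, hw⟩
  exact ((MorphismProperty.isomorphisms _).arrow_mk_iso_iff h).1
    (MorphismProperty.isomorphisms.infer_property ((π ∣_ U).stalkMap ⟨w, hw⟩))

theorem existsUnique_preimage {W Z : Scheme.{0}} (π : W ⟶ Z) (U : Z.Opens) [IsIso (π ∣_ U)] (z : Z)
    (hz : z ∈ U) : ∃ w : W, π w = z ∧ ∀ w' : W, π w' = z → w' = w := by
  have hb : Function.Bijective (π ∣_ U) := (π ∣_ U).homeomorph.bijective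
  obtain ⟨w, hw⟩ := hb.2 ⟨z, hz⟩
  refine ⟨w.1, ?_, fun w' hw' => ?_⟩
  · have := morphismRestrict_base_coe π U w
    rw [← this, hw]
  · have hU : w' ∈ π ⁻¹ᵁ U := by
      change π w' ∈ U
      rw [hw']
      exact hz
    have h1 : (π ∣_ U) ⟨w', hU⟩ = (π ∣_ U) w := by
      apply Subtype.ext
      rw [morphismRestrict_base_coe, hw]
      exact hw'
    exact congrArg Subtype.val (hb.1 h1)

/-- The set-up with all maps abstract. -/
theorem core {W E X Z P : Scheme.{0}} (i : W ⟶ E) [IsClosedImmersion i] (p : E ⟶ X) (q : E ⟶ P)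
    (π : W ⟶ Z) (ι : Z ⟶ X) [IsClosedImmersion ι] (h : i ≫ p = π ≫ ι) [IsClosedImmersion (i ≫ q)]
    (U : X.Opens) [IsIso (π ∣_ (ι ⁻¹ᵁ U))] :
    (∀ z : E, ∀ b ∈ stIdeal ι.ker (p z), (p.stalkMap z).hom b ∈ stIdeal i.ker z) ∧
      Set.InjOn q (i.ker.support : Set E) ∧
      (∀ z ∈ i.ker.support, ∀ a : E.presheaf.stalk z, ∃ b : P.presheaf.stalk (q z),
        a - (q.stalkMap z).hom b ∈ stIdeal i.ker z) ∧
      (∀ x ∈ U, x ∈ ι.ker.support → ∃ z ∈ i.ker.support, p z = x ∧ ∀ z' ∈ i.ker.support, p z' = x → z' = z) ∧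
      (∀ z ∈ i.ker.support, p z ∈ U → (∀ a : E.presheaf.stalk z, ∃ b : X.presheaf.stalk (p z),
        a - (p.stalkMap z).hom b ∈ stIdeal i.ker z) ∧
        ∀ b : X.presheaf.stalk (p z), (p.stalkMap z).hom b ∈ stIdeal i.ker z → b ∈ stIdeal ι.ker (p z)) := by
  have hsi : ∀ z, z ∈ i.ker.support ↔ ∃ w, i w = z := by
    intro z
    have h1 : (i.ker.support : Set E) = Set.range i := by
      rw [Scheme.Hom.support_ker]
      exact i.isClosedEmbedding.isClosed_range.closure_eq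
    exact (Set.ext_iff.1 h1 z)
  have hsι : ∀ x, x ∈ ι.ker.support ↔ ∃ z, ι z = x := by
    intro z
    have h1 : (ι.ker.support : Set X) = Set.range ι := by
      rw [Scheme.Hom.support_ker]
      exact ι.isClosedEmbedding.isClosed_range.closure_eq
    exact (Set.ext_iff.1 h1 z)
  have hpt : ∀ w, p (i w) = ι (π w) := fun w => congr($h w)
  refine ⟨?_, ?_, ?_, ?_, ?_⟩
  · intro z b hb
    by_cases hz : z ∈ i.ker.support
    · obtain ⟨w, rfl⟩ := (hsi z).1 hz
      rw [stIdeal_ker i w, RingHom.mem_ker]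
      obtain ⟨V, hV, s, hs⟩ := X.presheaf.exists_germ_eq (x := p (i w)) b
      have hV' : ι (π w) ∈ V := hpt w ▸ hV
      have h1 := square i p π ι h w V s hV hV'
      have h2 : (X.presheaf.germ V (ι (π w)) hV').hom s ∈ stIdeal ι.ker (ι (π w)) :=
        mem_congr ι.ker V s _ _ (hpt w) hV hV' (by
          have : (X.presheaf.germ V (p (i w)) hV).hom s = b := hs
          rw [this]
          exact hb)
      rw [stIdeal_ker ι (π w), RingHom.mem_ker] at h2
      rw [h2, map_zero] at h1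
      have h3 : (X.presheaf.germ V (p (i w)) hV).hom s = b := hs
      rw [h3] at h1
      exact h1
    · rw [stIdeal_eq_top i.ker z hz]
      trivial
  · intro z hz z' hz' hzz
    obtain ⟨w, rfl⟩ := (hsi z).1 hz
    obtain ⟨w', rfl⟩ := (hsi z').1 hz'
    have h1 : (i ≫ q) w = (i ≫ q) w' := hzz
    have h2 : Function.Injective (i ≫ q) := (i ≫ q).isClosedEmbedding.injective
    rw [h2 h1]
  · intro z hz a
    obtain ⟨w, rfl⟩ := (hsi z).1 hz
    obtain ⟨b, hb⟩ := (i ≫ q).stalkMap_surjective w ((i.stalkMap w).hom a)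
    refine ⟨b, ?_⟩
    rw [stIdeal_ker i w, RingHom.mem_ker, map_sub, sub_eq_zero]
    exact hb.symm.trans (stalkMap_comp_apply i q w b)
  · intro x hxU hx
    obtain ⟨z0, rfl⟩ := (hsι x).1 hx
    obtain ⟨w, hw, hw'⟩ := existsUnique_preimage π (ι ⁻¹ᵁ U) z0 hxU
    refine ⟨i w, (hsi _).2 ⟨w, rfl⟩, by rw [hpt, hw], ?_⟩
    intro z' hz' hpz'
    obtain ⟨w1, rfl⟩ := (hsi z').1 hz'
    rw [hpt] at hpz'
    have h1 : π w1 = z0 := ι.isClosedEmbedding.injective hpz'
    rw [hw' w1 h1]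
  · intro z hz hpU
    obtain ⟨w, rfl⟩ := (hsi z).1 hz
    have hwU : π w ∈ ι ⁻¹ᵁ U := by
      change ι (π w) ∈ U
      rw [← hpt]
      exact hpU
    have hiso := isIso_stalkMap π (ι ⁻¹ᵁ U) w hwU
    have hbij : Function.Bijective (π.stalkMap w).hom :=
      ConcreteCategory.bijective_of_isIso (π.stalkMap w)
    constructor
    · intro a
      obtain ⟨c, hc⟩ := hbij.2 ((i.stalkMap w).hom a)
      obtain ⟨b0, hb0⟩ := ι.stalkMap_surjective (π w) c
      obtain ⟨V, hV, s, hs⟩ := X.presheaf.exists_germ_eq (x := ι (π w)) b0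
      have hV' : p (i w) ∈ V := (hpt w).symm ▸ hV
      have h1 := square i p π ι h w V s hV' hV
      refine ⟨(X.presheaf.germ V (p (i w)) hV').hom s, ?_⟩
      rw [stIdeal_ker i w, RingHom.mem_ker, map_sub, sub_eq_zero, h1]
      have h2 : (X.presheaf.germ V (ι (π w)) hV).hom s = b0 := hs
      rw [h2]
      have h3 : (ι.stalkMap (π w)).hom b0 = c := hb0
      rw [h3, hc]
    · intro b hb
      rw [stIdeal_ker i w, RingHom.mem_ker] at hb
      obtain ⟨V, hV, s, hs⟩ := X.presheaf.exists_germ_eq (x := p (i w)) b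
      have hs' : (X.presheaf.germ V (p (i w)) hV).hom s = b := hs
      have hV' : ι (π w) ∈ V := hpt w ▸ hV
      have h1 := square i p π ι h w V s hV hV'
      rw [hs', hb] at h1
      have h2 : (ι.stalkMap (π w)).hom ((X.presheaf.germ V (ι (π w)) hV').hom s) = 0 :=
        hbij.1 (by rw [← h1, map_zero])
      have h3 : (X.presheaf.germ V (ι (π w)) hV').hom s ∈ stIdeal ι.ker (ι (π w)) := by
        rw [stIdeal_ker ι (π w), RingHom.mem_ker]
        exact h2
      rw [← hs']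
      exact mem_congr ι.ker V s _ _ (hpt w).symm hV' hV h3

/-- [CHOW] -/
theorem exists_chow (X : Scheme.{0}) [X.Over An.SC] [IsReduced X] [IsProper (X ↘ An.SC)]
    (I : X.IdealSheafData) (hI : I ≠ ⊤) :
    ∃ (m : ℕ) (E : Scheme.{0}) (_ : E.Over An.SC) (_ : IsReduced E) (p : E ⟶ X)
      (_ : p.IsOver An.SC) (_ : IsProper p) (q : E ⟶ CohB1.ProjSpace m ℂ) (_ : q.IsOver An.SC)
      (_ : IsProper q) (I' : E.IdealSheafData) (U : X.Opens),
      (∃ x ∈ U, x ∈ I.support) ∧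
      (∀ z : E, ∀ b ∈ stIdeal I (p z), (p.stalkMap z).hom b ∈ stIdeal I' z) ∧
      Set.InjOn q (I'.support : Set E) ∧
      (∀ z ∈ I'.support, ∀ a : E.presheaf.stalk z, ∃ b : (CohB1.ProjSpace m ℂ).presheaf.stalk (q z),
        a - (q.stalkMap z).hom b ∈ stIdeal I' z) ∧
      (∀ x ∈ U, x ∈ I.support → ∃ z ∈ I'.support, p z = x ∧ ∀ z' ∈ I'.support, p z' = x → z' = z) ∧
      (∀ z ∈ I'.support, p z ∈ U → (∀ a : E.presheaf.stalk z, ∃ b : X.presheaf.stalk (p z),
        a - (p.stalkMap z).hom b ∈ stIdeal I' z) ∧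
        ∀ b : X.presheaf.stalk (p z), (p.stalkMap z).hom b ∈ stIdeal I' z → b ∈ stIdeal I (p z)) := by
  have hNoeth : IsNoetherian An.SC := inferInstance
  let ι : I.subscheme ⟶ X := I.subschemeι
  obtain ⟨m, W, π, j, hj, hjc, hπ, -, U0, hU0, hiso⟩ := Groth.Agent.S0025.result (ι ≫ (X ↘ An.SC))
  have hPp : IsProper (CohB1.ProjSpace.toSpec m ℂ) := Groth.Agent.Dix.ProjProper.isProper_toSpec m ℂ
  let j' : W ⟶ CohB1.ProjSpace m ℂ := j ≫ (CohqB.ProjBC.projSpaceOverIso m ℂ).hom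
  have hj' : j' ≫ CohB1.ProjSpace.toSpec m ℂ = (π ≫ ι) ≫ (X ↘ An.SC) := by
    rw [Category.assoc, CohqB.ProjBC.projSpaceOverIso_hom_toSpec, hjc, Category.assoc]
  have hj'i : IsImmersion j' := inferInstance
  have hj'p : IsProper j' := by
    have : IsProper (j' ≫ CohB1.ProjSpace.toSpec m ℂ) := by
      rw [hj']
      infer_instance
    exact IsProper.of_comp j' (CohB1.ProjSpace.toSpec m ℂ)
  have hj'c : IsClosedImmersion j' :=
    IsClosedImmersion.of_isPreimmersion j' j'.isClosedMap.isClosed_range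
  let E := pullback (CohB1.ProjSpace.toSpec m ℂ) (X ↘ An.SC)
  let p : E ⟶ X := pullback.snd _ _
  let q : E ⟶ CohB1.ProjSpace m ℂ := pullback.fst _ _
  let i : W ⟶ E := pullback.lift j' (π ≫ ι) hj'
  have hip : i ≫ p = π ≫ ι := pullback.lift_snd _ _ _
  have hiq : i ≫ q = j' := pullback.lift_fst _ _ _
  have hiqc : IsClosedImmersion (i ≫ q) := hiq ▸ hj'c
  have hic : IsClosedImmersion i := IsClosedImmersion.of_comp i q
  have hs : Smooth (CohB1.ProjSpace.toSpec m ℂ) :=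
    (Groth.Agent.Sga5.ProjSmooth.smooth_toSpec (R := ℂ) m).smooth
  have hEr : IsReduced E := Groth.Agent.Etcore.SmoothRed.isReduced_of_smooth p
  obtain ⟨U1, hU1, hU1'⟩ := (ι.isEmbedding.isOpen_iff).1 U0.2
  let U : X.Opens := ⟨U1, hU1⟩
  have hUU : ι ⁻¹ᵁ U = U0 := by
    ext z
    exact Set.ext_iff.1 hU1' z
  have hisoU : IsIso (π ∣_ (ι ⁻¹ᵁ U)) := by
    rw [hUU]
    exact hiso
  have hker : ι.ker = I := I.ker_subschemeι
  have key := core i p q π ι hip U
  rw [hker] at key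
  let : E.Over An.SC := ⟨p ≫ (X ↘ An.SC)⟩
  refine ⟨m, E, inferInstance, hEr, p, ⟨rfl⟩, inferInstance, q, ⟨pullback.condition⟩, inferInstance,
    i.ker, U, ?_, key⟩
  -- nonemptiness
  have hne : (I.support : Set X).Nonempty := by
    by_contra h
    rw [Set.not_nonempty_iff_eq_empty] at h
    apply hI
    rw [← Scheme.IdealSheafData.support_eq_bot_iff]
    ext x
    exact Set.ext_iff.1 h x
  obtain ⟨x0, hx0⟩ := hne
  have hx1 : x0 ∈ Set.range ι := by
    rw [show Set.range ι = (I.support : Set X) from I.range_subschemeι]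
    exact hx0
  obtain ⟨z0, -⟩ := hx1
  have : Nonempty I.subscheme := ⟨z0⟩
  obtain ⟨z1, hz1⟩ := hU0.nonempty
  refine ⟨ι z1, ?_, ?_⟩
  · have : z1 ∈ ι ⁻¹ᵁ U := by rw [hUU]; exact hz1
    exact this
  · have : ι z1 ∈ Set.range ι := ⟨z1, rfl⟩
    rw [show Set.range ι = (I.support : Set X) from I.range_subschemeι] at this
    exact this

end Groth.Agent.Gaga.H625.Chow
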